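import Mathlib
import Groth.Prelude.Def_W4c2conddiscmodels

/-!
# Contracting a chain in a graph with a multiplicity function
-/

set_option autoImplicit false
universe u

open Finset LabGraph DualGr

namespace Groth.Agent.LGChain

variable {V E : Type u} [Fintype V] [Fintype E] [DecidableEq V] [DecidableEq E] {ends : E → V × V}

theorem mult_comm (ends : E → V × V) (a b : V) : edgeMult ends a b = edgeMult ends b a := by
  unfold edgeMult
  congr 1
  ext e
  simp [or_comm]

theorem exists_edge {a b : V} (h : edgeMult ends a b ≠ 0) : ∃ e, ends e = (a, b) ∨ ends e = (b, a) := by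
  obtain ⟨e, he⟩ := Finset.card_ne_zero.mp h
  exact ⟨e, (Finset.mem_filter.mp he).2⟩

theorem mult_pos {a b : V} {e : E} (h : ends e = (a, b) ∨ ends e = (b, a)) : 0 < edgeMult ends a b :=
  Finset.card_pos.mpr ⟨e, Finset.mem_filter.mpr ⟨Finset.mem_univ e, h⟩⟩

theorem diag_mul {β : V → ℤ} (hβ : IsMultFn ends β) (v : V) :
    mfMatrix ends β v v * β v = -(∑ u ∈ univ.erase v, β u * (edgeMult ends v u : ℤ)) := by
  rw [mfMatrix, if_pos rfl]
  exact Int.ediv_mul_cancel (dvd_neg.mpr (hβ v).2)

theorem mulVec_row (β : V → ℤ) (z : V → ℤ) (v : V) :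
    Matrix.mulVec (mfMatrix ends β) z v =
      (∑ u ∈ univ.erase v, (edgeMult ends v u : ℤ) * z u) + mfMatrix ends β v v * z v := by
  rw [Matrix.mulVec, dotProduct, ← Finset.sum_erase_add _ _ (Finset.mem_univ v)]
  congr 1
  refine Finset.sum_congr rfl fun u hu => ?_
  rw [mfMatrix, if_neg (Ne.symm (Finset.ne_of_mem_erase hu))]

theorem betaHom_eq (β x : V → ℤ) : betaHom β x = ∑ v, x v * β v := by
  simp [betaHom, Fintype.linearCombination_apply]

theorem betaHom_mulVec {β : V → ℤ} (hβ : IsMultFn ends β) (y : V → ℤ) :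
    betaHom β (Matrix.mulVec (mfMatrix ends β) y) = 0 := by
  simp only [betaHom_eq, mulVec_row, add_mul, Finset.sum_add_distrib, Finset.sum_mul]
  have : ∀ v : V, mfMatrix ends β v v * y v * β v =
      -(∑ u ∈ univ.erase v, β u * (edgeMult ends v u : ℤ) * y v) := by
    intro v
    rw [mul_right_comm, diag_mul hβ v, neg_mul, Finset.sum_mul]
  simp only [this, Finset.sum_neg_distrib]
  rw [add_neg_eq_zero]
  rw [Finset.sum_comm' (t' := univ) (s' := fun u => univ.erase u)
    (fun v u => by simp [ne_comm])]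
  refine Finset.sum_congr rfl fun v _ => Finset.sum_congr rfl fun u _ => ?_
  rw [mult_comm ends u v]; ring

section Contract

variable (D : Finset E)

local notation "π" => ctrMk ends D

theorem sum_ind {a b : V} (hne : a ≠ b) (s : E → Prop) [DecidablePred s] :
    ((univ.filter fun e => s e ∧ (ends e = (a, b) ∨ ends e = (b, a))).card : ℕ) =
      ∑ e : E, if s e then ((if ends e = (a, b) then 1 else 0) + (if ends e = (b, a) then 1 else 0)) else 0 := by
  rw [Finset.card_filter]
  refine Finset.sum_congr rfl fun e _ => ?_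
  by_cases hs : s e
  · by_cases h1 : ends e = (a, b)
    · have h2 : ¬ ends e = (b, a) := fun h2 => hne (Prod.mk.inj (h1.symm.trans h2)).1
      simp [hs, h1, hne]
    · simp [hs, h1]
  · simp [hs]

/-- Edge multiplicities of a contraction. -/
theorem ctr_mult {p q : CtrVert ends D} (hpq : p ≠ q) :
    edgeMult (ctrEnds ends D) p q =
      ∑ a ∈ univ.filter (fun a => π a = p), ∑ b ∈ univ.filter (fun b => π b = q), edgeMult ends a b := by
  have hr : ∀ a ∈ univ.filter (fun a => π a = p), ∀ b ∈ univ.filter (fun b => π b = q),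
      edgeMult ends a b = ∑ e : E, ((if ends e = (a, b) then 1 else 0) + (if ends e = (b, a) then 1 else 0)) := by
    intro a ha b hb
    have hne : a ≠ b := fun h => hpq (by
      rw [← (Finset.mem_filter.mp ha).2, ← (Finset.mem_filter.mp hb).2, h])
    have := sum_ind (ends := ends) hne (fun _ => True)
    simpa [edgeMult] using this
  rw [Finset.sum_congr rfl fun a ha => Finset.sum_congr rfl fun b hb => hr a ha b hb]
  rw [Finset.sum_congr rfl fun a _ => Finset.sum_comm, Finset.sum_comm]
  have hone : ∀ (x : V × V) (r s : CtrVert ends D),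
      (∑ a ∈ univ.filter (fun a => π a = r), ∑ b ∈ univ.filter (fun b => π b = s), (if x = (a, b) then 1 else 0)) =
        if π x.1 = r ∧ π x.2 = s then 1 else 0 := by
    rintro ⟨x, y⟩ r s
    simp only [Prod.mk.injEq, ite_and, Finset.sum_ite_irrel, Finset.sum_const_zero, Finset.sum_ite_eq,
      Finset.mem_filter, Finset.mem_univ, true_and]
  have hedge : ∀ e : E,
      (∑ a ∈ univ.filter (fun a => π a = p), ∑ b ∈ univ.filter (fun b => π b = q),
        ((if ends e = (a, b) then 1 else 0) + (if ends e = (b, a) then 1 else 0))) =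
      if e ∉ D ∧ ((π (ends e).1, π (ends e).2) = (p, q) ∨ (π (ends e).1, π (ends e).2) = (q, p)) then 1 else 0 := by
    intro e
    simp only [Finset.sum_add_distrib]
    have h2 : (∑ a ∈ univ.filter (fun a => π a = p), ∑ b ∈ univ.filter (fun b => π b = q),
        (if ends e = (b, a) then 1 else 0 : ℕ)) = if π (ends e).1 = q ∧ π (ends e).2 = p then 1 else 0 := by
      rw [Finset.sum_comm]; exact hone (ends e) q p
    rw [hone, h2]
    have hD : e ∈ D → π (ends e).1 = π (ends e).2 := ctrMk_fst_eq_ctrMk_snd ends D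
    simp only [Prod.mk.injEq]
    by_cases h1 : π (ends e).1 = p ∧ π (ends e).2 = q
    · have hn : ¬ (π (ends e).1 = q ∧ π (ends e).2 = p) := fun h => hpq (h1.1.symm.trans h.1)
      rw [if_pos h1, if_neg hn, if_pos ⟨fun h => hpq (by rw [← h1.1, ← h1.2, hD h]), Or.inl h1⟩]
    · rw [if_neg h1, zero_add]
      by_cases h3 : π (ends e).1 = q ∧ π (ends e).2 = p
      · rw [if_pos h3, if_pos ⟨fun h => hpq (by rw [← h3.1, ← h3.2, hD h]), Or.inr h3⟩]
      · rw [if_neg h3, if_neg (fun h => h.2.elim h1 h3)]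
  rw [Finset.sum_congr rfl fun e _ => hedge e, ← Finset.card_filter, edgeMult]
  refine Finset.card_bij (fun e _ => e.1) ?_ (fun a _ b _ h => Subtype.ext h) ?_
  · intro e he
    exact Finset.mem_filter.mpr ⟨Finset.mem_univ _, e.2, (Finset.mem_filter.mp he).2⟩
  · intro e he
    obtain ⟨-, hD, h⟩ := Finset.mem_filter.mp he
    exact ⟨⟨e, hD⟩, Finset.mem_filter.mpr ⟨Finset.mem_univ _, h⟩, rfl⟩

/-- Weighted sums over the neighbours in a contraction. -/
theorem ctr_sum (F : CtrVert ends D → ℤ) (p : CtrVert ends D) :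
    ∑ q ∈ univ.erase p, (edgeMult (ctrEnds ends D) p q : ℤ) * F q =
      ∑ a ∈ univ.filter (fun a => π a = p), ∑ b ∈ univ.filter (fun b => π b ≠ p),
        (edgeMult ends a b : ℤ) * F (π b) := by
  conv_rhs => rw [Finset.sum_comm]
  rw [← Finset.sum_fiberwise_of_maps_to (g := π) (t := univ.erase p)
    (fun b hb => Finset.mem_erase.mpr ⟨(Finset.mem_filter.mp hb).2, Finset.mem_univ _⟩)]
  refine Finset.sum_congr rfl fun q hq => ?_
  rw [ctr_mult D (Ne.symm (Finset.ne_of_mem_erase hq)), Finset.sum_comm]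
  push_cast
  rw [Finset.sum_mul, Finset.filter_filter]
  refine Finset.sum_congr (Finset.ext fun b => ?_) fun b hb => ?_
  · simp only [Finset.mem_filter, Finset.mem_univ, true_and, iff_and_self]
    exact fun h => h ▸ Finset.ne_of_mem_erase hq
  · rw [(Finset.mem_filter.mp hb).2.2, Finset.sum_mul]

end Contract

section Chain

variable {m : ℕ} {f : Fin (m + 1) → V} {e : Fin m → E}

/-- The vertices of a chain. -/
def verts (f : Fin (m + 1) → V) : Finset V := univ.image f

theorem ctr_eq_iff (hC : IsChain ends f e) (a b : V) :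
    ctrMk ends (univ.image e) a = ctrMk ends (univ.image e) b ↔ a = b ∨ (a ∈ verts f ∧ b ∈ verts f) := by
  constructor
  · intro h
    have h' : Relation.EqvGen (CtrRel ends (univ.image e)) a b := Quotient.exact h
    induction h' with
    | rel x y hxy =>
      obtain ⟨e', he', hxy⟩ := hxy
      obtain ⟨i, -, rfl⟩ := Finset.mem_image.mp he'
      refine Or.inr ?_
      rcases hC.2.2 i with h | h <;> rw [hxy] at h <;> cases h <;> simp [verts]
    | refl => exact Or.inl rfl
    | symm x y hxy ih => exact (ih (Quotient.sound hxy)).imp Eq.symm And.symm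
    | trans x y z hxy hyz ih1 ih2 =>
      rcases ih1 (Quotient.sound hxy) with rfl | h1
      · exact ih2 (Quotient.sound hyz)
      · rcases ih2 (Quotient.sound hyz) with rfl | h2
        · exact Or.inr h1
        · exact Or.inr ⟨h1.1, h2.2⟩
  · rintro (rfl | ⟨ha, hb⟩)
    · rfl
    · have key : ∀ i : Fin (m + 1), ctrMk ends (univ.image e) (f i) = ctrMk ends (univ.image e) (f 0) := by
        intro i
        induction i using Fin.induction with
        | zero => rfl
        | succ i ih =>
          rw [← ih]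
          have h := ctrMk_fst_eq_ctrMk_snd ends (univ.image e) (Finset.mem_image_of_mem e (Finset.mem_univ i))
          rcases hC.2.2 i with h' | h' <;> rw [h'] at h
          · exact h.symm
          · exact h
      obtain ⟨i, -, rfl⟩ := Finset.mem_image.mp ha
      obtain ⟨j, -, rfl⟩ := Finset.mem_image.mp hb
      exact (key i).trans (key j).symm

theorem fiber_chain (hC : IsChain ends f e) :
    univ.filter (fun a => ctrMk ends (univ.image e) a = ctrMk ends (univ.image e) (f 0)) = verts f := by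
  ext a
  rw [Finset.mem_filter, ctr_eq_iff hC]
  constructor
  · rintro ⟨-, rfl | h⟩
    · exact Finset.mem_image_of_mem f (Finset.mem_univ 0)
    · exact h.1
  · exact fun h => ⟨Finset.mem_univ a, Or.inr ⟨h, Finset.mem_image_of_mem f (Finset.mem_univ 0)⟩⟩

theorem fiber_other (hC : IsChain ends f e) {w : V} (hw : w ∉ verts f) :
    univ.filter (fun a => ctrMk ends (univ.image e) a = ctrMk ends (univ.image e) w) = {w} := by
  ext a
  simp [ctr_eq_iff hC, hw]

theorem class_cases (hC : IsChain ends f e) (p : CtrVert ends (univ.image e)) :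
    p = ctrMk ends (univ.image e) (f 0) ∨ ∃ w ∉ verts f, p = ctrMk ends (univ.image e) w := by
  obtain ⟨a, rfl⟩ := ctrMk_surjective ends _ p
  by_cases ha : a ∈ verts f
  · exact Or.inl ((ctr_eq_iff hC _ _).mpr (Or.inr ⟨ha, Finset.mem_image_of_mem f (Finset.mem_univ 0)⟩))
  · exact Or.inr ⟨a, ha, rfl⟩

theorem ctrFn_mk (hC : IsChain ends f e) (β : V → ℤ) (hconst : ∀ i j, β (f i) = β (f j)) (v : V) :
    ctrFn ends (univ.image e) β (ctrMk ends (univ.image e) v) = β v := by
  have h : ctrMk ends (univ.image e) (Quotient.out (s := ctrSetoid ends (univ.image e)) (ctrMk ends (univ.image e) v)) =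
      ctrMk ends (univ.image e) v := Quotient.out_eq _
  rcases (ctr_eq_iff hC _ _).mp h with h' | ⟨h1, h2⟩
  · exact congrArg β h'
  · obtain ⟨i, -, hi⟩ := Finset.mem_image.mp h1
    obtain ⟨j, -, hj⟩ := Finset.mem_image.mp h2
    show β (Quotient.out (s := ctrSetoid ends (univ.image e)) _) = β v
    rw [← hi, ← hj]; exact hconst i j

theorem ctr_sum_other (hC : IsChain ends f e) (F : CtrVert ends (univ.image e) → ℤ) {w : V} (hw : w ∉ verts f) :
    ∑ q ∈ univ.erase (ctrMk ends (univ.image e) w), (edgeMult (ctrEnds ends (univ.image e)) (ctrMk ends (univ.image e) w) q : ℤ) * F q =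
      ∑ b ∈ univ.erase w, (edgeMult ends w b : ℤ) * F (ctrMk ends (univ.image e) b) := by
  rw [ctr_sum, fiber_other hC hw, Finset.sum_singleton]
  refine Finset.sum_congr (Finset.ext fun b => ?_) fun _ _ => rfl
  simp only [Finset.mem_filter, Finset.mem_univ, true_and, Finset.mem_erase, and_true, ne_eq, ctr_eq_iff hC]
  exact ⟨fun h e => h (Or.inl e), fun h e => e.elim h fun e' => hw e'.2⟩

theorem ctr_sum_chain (hC : IsChain ends f e) (F : CtrVert ends (univ.image e) → ℤ) :
    ∑ q ∈ univ.erase (ctrMk ends (univ.image e) (f 0)),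
        (edgeMult (ctrEnds ends (univ.image e)) (ctrMk ends (univ.image e) (f 0)) q : ℤ) * F q =
      ∑ a ∈ verts f, ∑ b ∈ univ \ verts f, (edgeMult ends a b : ℤ) * F (ctrMk ends (univ.image e) b) := by
  rw [ctr_sum, fiber_chain hC]
  refine Finset.sum_congr rfl fun a _ => Finset.sum_congr ?_ fun _ _ => rfl
  rw [← fiber_chain hC]
  ext b
  simp

theorem isMultFn_ctrFn (hC : IsChain ends f e) {β : V → ℤ} (hβ : IsMultFn ends β)
    (hconst : ∀ i j, β (f i) = β (f j)) :
    IsMultFn (ctrEnds ends (univ.image e)) (ctrFn ends (univ.image e) β) := by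
  intro p
  rcases class_cases hC p with rfl | ⟨w, hw, rfl⟩
  · refine ⟨by rw [ctrFn_mk hC β hconst]; exact (hβ _).1, ?_⟩
    rw [ctrFn_mk hC β hconst]
    simp only [mul_comm (ctrFn ends (univ.image e) β _) _]
    rw [ctr_sum_chain hC]
    simp only [ctrFn_mk hC β hconst]
    refine Finset.dvd_sum fun a ha => ?_
    obtain ⟨i, -, rfl⟩ := Finset.mem_image.mp ha
    have h1 : β (f 0) ∣ ∑ b ∈ univ.erase (f i), (edgeMult ends (f i) b : ℤ) * β b := by
      rw [hconst 0 i]; simpa [mul_comm] using (hβ (f i)).2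
    have hsplit : ∑ b ∈ univ.erase (f i), (edgeMult ends (f i) b : ℤ) * β b =
        ∑ b ∈ (verts f).erase (f i), (edgeMult ends (f i) b : ℤ) * β b +
          ∑ b ∈ univ \ verts f, (edgeMult ends (f i) b : ℤ) * β b := by
      rw [← Finset.sum_union]
      · refine Finset.sum_congr (Finset.ext fun b => ?_) fun _ _ => rfl
        simp only [Finset.mem_union, Finset.mem_erase, Finset.mem_sdiff, Finset.mem_univ, and_true, true_and]
        constructor
        · intro h; by_cases hb : b ∈ verts f <;> simp [h, hb]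
        · rintro (h | h)
          · exact h.1
          · exact fun e => h (e ▸ Finset.mem_image_of_mem f (Finset.mem_univ i))
      · rw [Finset.disjoint_left]
        intro b hb; simp [(Finset.mem_erase.mp hb).2]
    have h2 : β (f 0) ∣ ∑ b ∈ (verts f).erase (f i), (edgeMult ends (f i) b : ℤ) * β b := by
      refine Finset.dvd_sum fun b hb => ?_
      obtain ⟨j, -, rfl⟩ := Finset.mem_image.mp (Finset.mem_erase.mp hb).2
      rw [hconst j 0]; exact dvd_mul_left _ _
    rw [hsplit] at h1
    exact (dvd_add_right h2).mp h1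
  · refine ⟨by rw [ctrFn_mk hC β hconst]; exact (hβ _).1, ?_⟩
    rw [ctrFn_mk hC β hconst]
    simp only [mul_comm (ctrFn ends (univ.image e) β _) _]
    rw [ctr_sum_other hC _ hw]
    simp only [ctrFn_mk hC β hconst]
    simpa [mul_comm] using (hβ w).2

/-- A chain as in the component-group lemmas. -/
structure Good (ends : E → V × V) (β : V → ℤ) (f : Fin (m + 1) → V) (e : Fin m → E) : Prop where
  mult : IsMultFn ends β
  chain : IsChain ends f e
  conn : ∀ i, IsConnecting ends (e i)
  beta : ∀ i, β (f i) = m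
  diag : ∀ i, mfMatrix ends β (f i) (f i) = -2

variable {β : V → ℤ}

/-- The chain vertex with index `i`. -/
def vx (f : Fin (m + 1) → V) (i : ℕ) : V := if h : i < m + 1 then f ⟨i, h⟩ else f 0

namespace Good

variable (G : Good ends β f e)
include G

theorem m_pos : 0 < m := by
  have h := (G.mult (f 0)).1
  rw [G.beta] at h
  omega

theorem vx_eq {i : Fin (m + 1)} : vx f i = f i := dif_pos i.2

theorem vx_inj {i j : ℕ} (hi : i ≤ m) (hj : j ≤ m) (h : vx f i = vx f j) : i = j := by
  rw [vx, vx, dif_pos (Nat.lt_succ_of_le hi), dif_pos (Nat.lt_succ_of_le hj)] at h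
  exact congrArg Fin.val (G.chain.1 h)

theorem vx_mem {i : ℕ} : vx f i ∈ verts f := by
  unfold vx; split_ifs <;> exact Finset.mem_image_of_mem f (Finset.mem_univ _)

omit G in
theorem exists_vx {a : V} (ha : a ∈ verts f) : ∃ i ≤ m, vx f i = a := by
  obtain ⟨i, -, rfl⟩ := Finset.mem_image.mp ha
  exact ⟨i, Nat.le_of_lt_succ i.2, dif_pos i.2⟩

theorem beta_vx (i : ℕ) : β (vx f i) = m := by
  unfold vx; split_ifs <;> exact G.beta _

theorem diag_vx (i : ℕ) : mfMatrix ends β (vx f i) (vx f i) = -2 := by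
  unfold vx; split_ifs <;> exact G.diag _

theorem adj {i : ℕ} (hi : i < m) : 0 < edgeMult ends (vx f i) (vx f (i + 1)) := by
  rw [vx, vx, dif_pos (by omega), dif_pos (by omega)]
  exact mult_pos (G.chain.2.2 ⟨i, hi⟩)

theorem ne_vx {i j : ℕ} (hi : i ≤ m) (hj : j ≤ m) (h : i ≠ j) : vx f i ≠ vx f j := fun e => h (G.vx_inj hi hj e)

theorem total (i : ℕ) : ∑ b ∈ univ.erase (vx f i), β b * (edgeMult ends (vx f i) b : ℤ) = 2 * m := by
  have := diag_mul G.mult (vx f i)
  rw [G.diag_vx, G.beta_vx] at this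
  omega

theorem interior {i : ℕ} (h0 : 0 < i) (hi : i < m) :
    edgeMult ends (vx f i) (vx f (i - 1)) = 1 ∧ edgeMult ends (vx f i) (vx f (i + 1)) = 1 ∧
      ∀ b, b ≠ vx f i → b ≠ vx f (i - 1) → b ≠ vx f (i + 1) → edgeMult ends (vx f i) b = 0 := by
  have h1 : 0 < edgeMult ends (vx f i) (vx f (i - 1)) := by
    rw [mult_comm]; convert G.adj (i := i - 1) (by omega) using 3; omega
  have h2 := G.adj hi
  have hm : (0 : ℤ) < m := by exact_mod_cast G.m_pos
  have hne1 : vx f (i - 1) ≠ vx f i := G.ne_vx (by omega) (by omega) (by omega)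
  have hne2 : vx f (i + 1) ≠ vx f i := G.ne_vx (by omega) (by omega) (by omega)
  have hne3 : vx f (i + 1) ≠ vx f (i - 1) := G.ne_vx (by omega) (by omega) (by omega)
  have ht := G.total i
  rw [← Finset.add_sum_erase _ _ (Finset.mem_erase.mpr ⟨hne1, Finset.mem_univ _⟩),
    ← Finset.add_sum_erase _ _ (Finset.mem_erase.mpr ⟨hne3, Finset.mem_erase.mpr ⟨hne2, Finset.mem_univ _⟩⟩),
    G.beta_vx, G.beta_vx] at ht
  set rest := ((univ.erase (vx f i)).erase (vx f (i - 1))).erase (vx f (i + 1)) with hr
  have hnn : ∀ b ∈ rest, 0 ≤ β b * (edgeMult ends (vx f i) b : ℤ) := fun b _ => by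
    have := (G.mult b).1; positivity
  have hs := Finset.sum_nonneg hnn
  have e1 : edgeMult ends (vx f i) (vx f (i - 1)) = 1 := by
    have : (m : ℤ) * edgeMult ends (vx f i) (vx f (i - 1)) ≤ m * 1 := by
      have : (m : ℤ) * 1 ≤ m * edgeMult ends (vx f i) (vx f (i + 1)) :=
        mul_le_mul_of_nonneg_left (by exact_mod_cast h2) hm.le
      linarith
    have := le_of_mul_le_mul_left this hm
    omega
  have e2 : edgeMult ends (vx f i) (vx f (i + 1)) = 1 := by
    have : (m : ℤ) * edgeMult ends (vx f i) (vx f (i + 1)) ≤ m * 1 := by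
      rw [e1] at ht; push_cast at ht; linarith
    have := le_of_mul_le_mul_left this hm
    omega
  refine ⟨e1, e2, fun b hb hb1 hb2 => ?_⟩
  rw [e1, e2] at ht
  push_cast at ht
  have hz := (Finset.sum_eq_zero_iff_of_nonneg hnn).mp (by linarith) b (by simp [hr, hb, hb1, hb2])
  rcases mul_eq_zero.mp hz with h | h
  · exact absurd h (ne_of_gt (G.mult b).1)
  · exact_mod_cast h

theorem exists_side : ∃ A : V → Prop, A (vx f 0) ∧ (∀ i, 1 ≤ i → i ≤ m → ¬ A (vx f i)) ∧
    ∀ a b, edgeMult ends a b ≠ 0 → A a → ¬ A b → a = vx f 0 ∧ b = vx f 1 ∧ edgeMult ends a b = 1 := by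
  obtain ⟨S, hS⟩ := G.conn ⟨0, G.m_pos⟩
  set e0 := e ⟨0, G.m_pos⟩ with he0
  let A : V → Prop := fun a => a ∈ S ↔ vx f 0 ∈ S
  have hend : ends e0 = (vx f 0, vx f 1) ∨ ends e0 = (vx f 1, vx f 0) := by
    rw [vx, vx, dif_pos (by omega), dif_pos (by have := G.m_pos; omega)]
    exact G.chain.2.2 ⟨0, G.m_pos⟩
  have hsame : ∀ e', e' ≠ e0 → ((ends e').1 ∈ S ↔ (ends e').2 ∈ S) := fun e' he' => by
    have := mt (hS e').mp he'
    tauto
  have hcross : vx f 1 ∈ S ↔ vx f 0 ∉ S := by
    have := (hS e0).mpr rfl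
    rcases hend with h | h <;> rw [h] at this <;> tauto
  refine ⟨A, Iff.rfl, ?_, ?_⟩
  · intro i h1 hi
    induction i with
    | zero => omega
    | succ i ih =>
      rcases Nat.eq_zero_or_pos i with rfl | hpos
      · intro h; exact (hcross.trans (not_congr h.symm)).elim (fun a b => by tauto)
      · have hi' := ih hpos (by omega)
        have hne : e ⟨i, by omega⟩ ≠ e0 := fun h => by
          have := congrArg Fin.val (G.chain.2.1 h); simp at this; omega
        have h' := hsame _ hne
        have hh : ends (e ⟨i, by omega⟩) = (vx f i, vx f (i + 1)) ∨ ends (e ⟨i, by omega⟩) = (vx f (i + 1), vx f i) := by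
          rw [vx, vx, dif_pos (by omega), dif_pos (by omega)]
          exact G.chain.2.2 ⟨i, by omega⟩
        rcases hh with h | h <;> rw [h] at h' <;> simp only [A] at hi' ⊢ <;> tauto
  · intro a b hab ha hb
    have hall : ∀ e', ends e' = (a, b) ∨ ends e' = (b, a) → e' = e0 := by
      intro e' he'
      by_contra hne
      have h' := hsame e' hne
      rcases he' with h | h <;> rw [h] at h' <;> simp only [A] at ha hb <;> tauto
    obtain ⟨e', he'⟩ := exists_edge hab
    obtain rfl := hall e' he'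
    refine and_assoc.mp ⟨?_, ?_⟩
    · have hA1 : ¬ A (vx f 1) := by simp only [A]; tauto
      rcases hend with h | h <;> rw [h] at he' <;> rcases he' with h' | h' <;> cases h'
      · exact ⟨rfl, rfl⟩
      · exact absurd ha hA1
      · exact absurd ha hA1
      · exact ⟨rfl, rfl⟩
    · unfold edgeMult
      rw [Finset.card_eq_one]
      refine ⟨e0, Finset.eq_singleton_iff_unique_mem.mpr ⟨Finset.mem_filter.mpr ⟨Finset.mem_univ _, he'⟩, ?_⟩⟩
      exact fun e'' h => hall e'' (Finset.mem_filter.mp h).2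

theorem chain_mult {i j : ℕ} (hi : i ≤ m) (hj : j ≤ m) (hij : i < j) :
    edgeMult ends (vx f i) (vx f j) = if j = i + 1 then 1 else 0 := by
  rcases Nat.eq_zero_or_pos i with rfl | hpos
  · obtain ⟨A, hA0, hA, hAcross⟩ := G.exists_side
    by_cases hne : edgeMult ends (vx f 0) (vx f j) = 0
    · rw [hne]
      by_cases h1 : j = 0 + 1
      · subst h1; exact absurd hne (G.adj (i := 0) G.m_pos).ne'
      · rw [if_neg h1]
    · obtain ⟨-, h2, h3⟩ := hAcross _ _ hne hA0 (hA j (by omega) hj)
      rw [h3, if_pos]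
      have := G.vx_inj hj (G.m_pos) h2
      omega
  · obtain ⟨-, h2, h3⟩ := G.interior hpos (by omega)
    by_cases h1 : j = i + 1
    · subst h1; rw [h2, if_pos rfl]
    · rw [if_neg h1]
      exact h3 _ (G.ne_vx hj hi (by omega)) (G.ne_vx hj (by omega) (by omega)) (G.ne_vx hj (by omega) h1)

theorem split_erase {a : V} (ha : a ∈ verts f) (F : V → ℤ) :
    ∑ b ∈ univ.erase a, F b = ∑ b ∈ (verts f).erase a, F b + ∑ b ∈ univ \ verts f, F b := by
  rw [← Finset.sum_union]
  · refine Finset.sum_congr (Finset.ext fun b => ?_) fun _ _ => rfl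
    simp only [Finset.mem_union, Finset.mem_erase, Finset.mem_sdiff, Finset.mem_univ, and_true, true_and]
    constructor
    · intro h; by_cases hb : b ∈ verts f <;> simp [h, hb]
    · rintro (h | h)
      · exact h.1
      · exact fun e => h (e ▸ ha)
  · rw [Finset.disjoint_left]
    intro b hb; simp [(Finset.mem_erase.mp hb).2]

theorem sum_zero_chain (y : V → ℤ) :
    ∑ b ∈ (verts f).erase (vx f 0), (edgeMult ends (vx f 0) b : ℤ) * y b = y (vx f 1) := by
  rw [Finset.sum_eq_single (vx f 1)]
  · rw [G.chain_mult (by omega) G.m_pos (by omega), if_pos rfl]; simp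
  · intro b hb hne
    obtain ⟨hb0, hb⟩ := Finset.mem_erase.mp hb
    obtain ⟨j, hj, rfl⟩ := exists_vx hb
    have hj0 : j ≠ 0 := fun h => hb0 (by rw [h])
    have hj1 : j ≠ 0 + 1 := fun h => hne (by rw [h])
    rw [G.chain_mult (by omega) hj (by omega), if_neg hj1]; simp
  · intro h; exact absurd (Finset.mem_erase.mpr ⟨G.ne_vx G.m_pos (by omega) (by omega), G.vx_mem⟩) h

theorem sum_last_chain (y : V → ℤ) :
    ∑ b ∈ (verts f).erase (vx f m), (edgeMult ends (vx f m) b : ℤ) * y b = y (vx f (m - 1)) := by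
  have hp := G.m_pos
  rw [Finset.sum_eq_single (vx f (m - 1))]
  · rw [mult_comm, G.chain_mult (by omega) le_rfl (by omega), if_pos (by omega)]; simp
  · intro b hb hne
    obtain ⟨hbm, hb⟩ := Finset.mem_erase.mp hb
    obtain ⟨j, hj, rfl⟩ := exists_vx hb
    have hjm : j ≠ m := fun h => hbm (by rw [h])
    have hj1 : j ≠ m - 1 := fun h => hne (by rw [h])
    rw [mult_comm, G.chain_mult hj le_rfl (by omega), if_neg (by omega)]; simp
  · intro h; exact absurd (Finset.mem_erase.mpr ⟨G.ne_vx (by omega) le_rfl (by omega), G.vx_mem⟩) h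

theorem row_interior {i : ℕ} (h0 : 0 < i) (hi : i < m) (y : V → ℤ) :
    Matrix.mulVec (mfMatrix ends β) y (vx f i) = y (vx f (i - 1)) + y (vx f (i + 1)) - 2 * y (vx f i) := by
  obtain ⟨e1, e2, e3⟩ := G.interior h0 hi
  rw [mulVec_row, G.diag_vx]
  rw [Finset.sum_eq_add (vx f (i - 1)) (vx f (i + 1)) (G.ne_vx (by omega) (by omega) (by omega))]
  · rw [e1, e2]; ring
  · intro b hb hne
    rw [e3 b (Finset.ne_of_mem_erase hb) hne.1 hne.2]; simp
  · intro h; exact absurd (Finset.mem_erase.mpr ⟨G.ne_vx (by omega) (by omega) (by omega), Finset.mem_univ _⟩) h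
  · intro h; exact absurd (Finset.mem_erase.mpr ⟨G.ne_vx (by omega) (by omega) (by omega), Finset.mem_univ _⟩) h

theorem row_zero (y : V → ℤ) : Matrix.mulVec (mfMatrix ends β) y (vx f 0) =
    ∑ b ∈ univ \ verts f, (edgeMult ends (vx f 0) b : ℤ) * y b + y (vx f 1) - 2 * y (vx f 0) := by
  rw [mulVec_row, G.diag_vx, G.split_erase G.vx_mem, G.sum_zero_chain]
  ring

theorem row_last (y : V → ℤ) : Matrix.mulVec (mfMatrix ends β) y (vx f m) =
    ∑ b ∈ univ \ verts f, (edgeMult ends (vx f m) b : ℤ) * y b + y (vx f (m - 1)) - 2 * y (vx f m) := by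
  rw [mulVec_row, G.diag_vx, G.split_erase G.vx_mem, G.sum_last_chain]
  ring

theorem outer_interior {i : ℕ} (h0 : 0 < i) (hi : i < m) {b : V} (hb : b ∉ verts f) :
    edgeMult ends (vx f i) b = 0 :=
  (G.interior h0 hi).2.2 b (fun e => hb (e ▸ G.vx_mem)) (fun e => hb (e ▸ G.vx_mem)) (fun e => hb (e ▸ G.vx_mem))

theorem outer_weight_zero : ∑ b ∈ univ \ verts f, (edgeMult ends (vx f 0) b : ℤ) * β b = m := by
  have h := G.total 0
  simp only [mul_comm (β _) _] at h
  rw [G.split_erase G.vx_mem, G.sum_zero_chain, G.beta_vx] at h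
  omega

theorem outer_weight_last : ∑ b ∈ univ \ verts f, (edgeMult ends (vx f m) b : ℤ) * β b = m := by
  have h := G.total m
  simp only [mul_comm (β _) _] at h
  rw [G.split_erase G.vx_mem, G.sum_last_chain, G.beta_vx] at h
  omega

theorem sum_two (F : V → ℤ) (hF : ∀ i, 0 < i → i < m → F (vx f i) = 0) :
    ∑ a ∈ verts f, F a = F (vx f 0) + F (vx f m) := by
  rw [Finset.sum_eq_add (vx f 0) (vx f m) (G.ne_vx (by omega) le_rfl (by have := G.m_pos; omega))]
  · intro a ha hne
    obtain ⟨i, hi, rfl⟩ := exists_vx ha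
    refine hF i (Nat.pos_of_ne_zero fun h => hne.1 (by rw [h])) ?_
    exact lt_of_le_of_ne hi fun h => hne.2 (by rw [h])
  · exact fun h => absurd G.vx_mem h
  · exact fun h => absurd G.vx_mem h

theorem hconst : ∀ i j, β (f i) = β (f j) := fun i j => by rw [G.beta, G.beta]

theorem mult' : IsMultFn (ctrEnds ends (univ.image e)) (ctrFn ends (univ.image e) β) :=
  isMultFn_ctrFn G.chain G.mult G.hconst

omit G in
theorem vx_zero : vx f 0 = f 0 := dif_pos (Nat.succ_pos m)

theorem outer_sum (F : V → ℤ) :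
    ∑ a ∈ verts f, ∑ b ∈ univ \ verts f, (edgeMult ends a b : ℤ) * F b =
      ∑ b ∈ univ \ verts f, (edgeMult ends (vx f 0) b : ℤ) * F b +
        ∑ b ∈ univ \ verts f, (edgeMult ends (vx f m) b : ℤ) * F b :=
  G.sum_two _ fun i h0 hi => Finset.sum_eq_zero fun b hb => by
    rw [G.outer_interior h0 hi (Finset.mem_sdiff.mp hb).2]; simp

theorem row_ctr_chain (z : CtrVert ends (univ.image e) → ℤ) :
    Matrix.mulVec (mfMatrix (ctrEnds ends (univ.image e)) (ctrFn ends (univ.image e) β)) z (ctrMk ends (univ.image e) (vx f 0)) =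
      ∑ b ∈ univ \ verts f, (edgeMult ends (vx f 0) b : ℤ) * z (ctrMk ends (univ.image e) b) +
        ∑ b ∈ univ \ verts f, (edgeMult ends (vx f m) b : ℤ) * z (ctrMk ends (univ.image e) b) -
        2 * z (ctrMk ends (univ.image e) (vx f 0)) := by
  rw [mulVec_row]
  have hd := diag_mul G.mult' (ctrMk ends (univ.image e) (vx f 0))
  have h2 : ∑ q ∈ univ.erase (ctrMk ends (univ.image e) (vx f 0)),
      ctrFn ends (univ.image e) β q * (edgeMult (ctrEnds ends (univ.image e)) (ctrMk ends (univ.image e) (vx f 0)) q : ℤ) = 2 * m := by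
    simp only [mul_comm (ctrFn ends (univ.image e) β _) _]
    rw [vx_zero, ctr_sum_chain G.chain]
    simp only [ctrFn_mk G.chain β G.hconst]
    rw [G.outer_sum, G.outer_weight_zero, G.outer_weight_last]
    ring
  rw [h2, ctrFn_mk G.chain β G.hconst, G.beta_vx] at hd
  have hα : mfMatrix (ctrEnds ends (univ.image e)) (ctrFn ends (univ.image e) β)
      (ctrMk ends (univ.image e) (vx f 0)) (ctrMk ends (univ.image e) (vx f 0)) = -2 := by
    refine mul_right_cancel₀ (b := (m : ℤ)) (by exact_mod_cast G.m_pos.ne') ?_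
    rw [hd]; ring
  rw [hα]
  have hc := ctr_sum_chain G.chain z
  rw [← vx_zero (f := f)] at hc
  rw [hc, G.outer_sum]
  ring

theorem row_outer {w : V} (hw : w ∉ verts f) (y : V → ℤ) :
    Matrix.mulVec (mfMatrix ends β) y w =
      ∑ b ∈ (univ \ verts f).erase w, (edgeMult ends w b : ℤ) * y b + (edgeMult ends w (vx f 0) : ℤ) * y (vx f 0) +
        (edgeMult ends w (vx f m) : ℤ) * y (vx f m) + mfMatrix ends β w w * y w := by
  rw [mulVec_row, ← Finset.sum_sdiff (s₁ := verts f) (s₂ := univ.erase w)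
    (fun b hb => Finset.mem_erase.mpr ⟨fun e => hw (e ▸ hb), Finset.mem_univ _⟩)]
  rw [G.sum_two (fun b => (edgeMult ends w b : ℤ) * y b) fun i h0 hi => by
    rw [mult_comm, G.outer_interior h0 hi hw]; simp]
  have : univ.erase w \ verts f = (univ \ verts f).erase w := by ext b; simp [and_comm]
  rw [this]; ring

theorem row_ctr_outer {w : V} (hw : w ∉ verts f) (z : CtrVert ends (univ.image e) → ℤ) :
    Matrix.mulVec (mfMatrix (ctrEnds ends (univ.image e)) (ctrFn ends (univ.image e) β)) z (ctrMk ends (univ.image e) w) =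
      Matrix.mulVec (mfMatrix ends β) (fun b => z (ctrMk ends (univ.image e) b)) w := by
  rw [mulVec_row, mulVec_row, ctr_sum_other G.chain _ hw]
  congr 2
  refine mul_right_cancel₀ (b := β w) (G.mult w).1.ne' ?_
  have hd := diag_mul G.mult' (ctrMk ends (univ.image e) w)
  simp only [mul_comm (ctrFn ends (univ.image e) β _) ((edgeMult _ _ _ : ℕ) : ℤ)] at hd
  rw [ctr_sum_other G.chain _ hw] at hd
  simp only [ctrFn_mk G.chain β G.hconst] at hd
  rw [hd, diag_mul G.mult w]
  simp [mul_comm]

theorem mk_last : ctrMk ends (univ.image e) (vx f m) = ctrMk ends (univ.image e) (vx f 0) :=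
  (ctr_eq_iff G.chain _ _).mpr (Or.inr ⟨G.vx_mem, G.vx_mem⟩)

omit G in
theorem lift_outer (hC : IsChain ends f e) (x : CtrVert ends (univ.image e) → ℤ) {w : V} (hw : w ∉ verts f) :
    liftAt ends (univ.image e) (f 0) x w = x (ctrMk ends (univ.image e) w) := by
  refine if_neg fun h => ?_
  rcases (ctr_eq_iff hC _ _).mp h.1 with e | e
  · exact h.2 e
  · exact hw e.1

omit G in
theorem lift_zero (x : CtrVert ends (univ.image e) → ℤ) :
    liftAt ends (univ.image e) (f 0) x (vx f 0) = x (ctrMk ends (univ.image e) (vx f 0)) := by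
  rw [vx_zero]; exact if_neg fun h => h.2 rfl

theorem lift_pos (x : CtrVert ends (univ.image e) → ℤ) {i : ℕ} (h0 : 0 < i) (hi : i ≤ m) :
    liftAt ends (univ.image e) (f 0) x (vx f i) = 0 :=
  if_pos ⟨(ctr_eq_iff G.chain _ _).mpr (Or.inr ⟨G.vx_mem, Finset.mem_image_of_mem f (Finset.mem_univ 0)⟩),
    vx_zero (f := f) ▸ G.ne_vx hi (by omega) (by omega)⟩

/-- The key computation: rows of the contracted and of the original matrix correspond, for vectors that are linear
along the chain and shifted by a multiple of `β` beyond it. -/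
theorem transfer (A : V → Prop) [DecidablePred A]
    (hA0 : A (vx f 0)) (hA : ∀ i, 1 ≤ i → i ≤ m → ¬ A (vx f i))
    (hcross : ∀ a b, edgeMult ends a b ≠ 0 → A a → ¬ A b → a = vx f 0 ∧ b = vx f 1 ∧ edgeMult ends a b = 1)
    (z : CtrVert ends (univ.image e) → ℤ) (y : V → ℤ) (d : ℤ)
    (hlin : ∀ i, i ≤ m → y (vx f i) = z (ctrMk ends (univ.image e) (vx f 0)) + d * i)
    (hout : ∀ w ∉ verts f, y w = z (ctrMk ends (univ.image e) w) + if A w then 0 else d * β w) :
    (∀ w ∉ verts f, Matrix.mulVec (mfMatrix ends β) y w =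
      Matrix.mulVec (mfMatrix (ctrEnds ends (univ.image e)) (ctrFn ends (univ.image e) β)) z (ctrMk ends (univ.image e) w)) ∧
    (∀ i, 0 < i → i < m → Matrix.mulVec (mfMatrix ends β) y (vx f i) = 0) ∧
    Matrix.mulVec (mfMatrix ends β) y (vx f 0) + Matrix.mulVec (mfMatrix ends β) y (vx f m) =
      Matrix.mulVec (mfMatrix (ctrEnds ends (univ.image e)) (ctrFn ends (univ.image e) β)) z (ctrMk ends (univ.image e) (vx f 0)) := by
  have hp := G.m_pos
  set c := z (ctrMk ends (univ.image e) (vx f 0)) with hc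
  refine ⟨fun w hw => ?_, fun i h0 hi => ?_, ?_⟩
  · rw [G.row_ctr_outer hw, G.row_outer hw, G.row_outer hw, G.mk_last, ← hc, hlin 0 (by omega), hlin m le_rfl]
    have hb : ∀ b ∈ (univ \ verts f).erase w, (edgeMult ends w b : ℤ) * y b =
        (edgeMult ends w b : ℤ) * z (ctrMk ends (univ.image e) b) + (if A w then 0 else d) * ((edgeMult ends w b : ℤ) * β b) := by
      intro b hb
      have hb' : b ∉ verts f := (Finset.mem_sdiff.mp (Finset.mem_erase.mp hb).2).2
      rw [hout b hb']
      by_cases hm0 : edgeMult ends w b = 0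
      · simp [hm0]
      have hiff : A w ↔ A b := by
        constructor
        · intro h; by_contra h'
          exact hw ((hcross w b hm0 h h').1 ▸ G.vx_mem)
        · intro h; by_contra h'
          exact hb' ((hcross b w (by rwa [mult_comm]) h h').1 ▸ G.vx_mem)
      by_cases hAw : A w
      · rw [if_pos hAw, if_pos (hiff.mp hAw)]; ring
      · rw [if_neg hAw, if_neg (fun h => hAw (hiff.mpr h))]; ring
    rw [Finset.sum_congr rfl hb, Finset.sum_add_distrib, ← Finset.mul_sum, hout w hw]
    by_cases hAw : A w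
    · have hm0 : edgeMult ends w (vx f m) = 0 := by
        by_contra h
        exact hw ((hcross w _ h hAw (hA m hp le_rfl)).1 ▸ G.vx_mem)
      rw [if_pos hAw, if_pos hAw, hm0]
      push_cast; ring
    · have hm0 : edgeMult ends w (vx f 0) = 0 := by
        by_contra h
        exact hw ((hcross _ w (by rwa [mult_comm]) hA0 hAw).2.1 ▸ G.vx_mem)
      have hbeta := G.row_outer hw β
      rw [mulVec_row, hm0, G.beta_vx, G.beta_vx, diag_mul G.mult w] at hbeta
      simp only [mul_comm (β _) ((edgeMult _ _ _ : ℕ) : ℤ)] at hbeta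
      rw [if_neg hAw, if_neg hAw, hm0]
      have hd := diag_mul G.mult w
      simp only [mul_comm (β _) ((edgeMult _ _ _ : ℕ) : ℤ)] at hd
      push_cast at hbeta ⊢
      linear_combination (d : ℤ) * hd - d * hbeta
  · rw [G.row_interior h0 hi, hlin (i - 1) (by omega), hlin (i + 1) (by omega), hlin i hi.le,
      Nat.cast_sub (by omega : 1 ≤ i)]
    push_cast; ring
  · rw [G.row_ctr_chain, G.row_zero, G.row_last, ← hc, hlin 0 (by omega), hlin 1 hp, hlin (m - 1) (by omega),
      hlin m le_rfl]
    have hb0 : ∀ b ∈ univ \ verts f, (edgeMult ends (vx f 0) b : ℤ) * y b =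
        (edgeMult ends (vx f 0) b : ℤ) * z (ctrMk ends (univ.image e) b) := by
      intro b hb
      have hb' := (Finset.mem_sdiff.mp hb).2
      rw [hout b hb']
      by_cases hm0 : edgeMult ends (vx f 0) b = 0
      · simp [hm0]
      rw [if_pos (by by_contra h'; exact hb' ((hcross _ b hm0 hA0 h').2.1 ▸ G.vx_mem)), add_zero]
    have hbm : ∀ b ∈ univ \ verts f, (edgeMult ends (vx f m) b : ℤ) * y b =
        (edgeMult ends (vx f m) b : ℤ) * z (ctrMk ends (univ.image e) b) + d * ((edgeMult ends (vx f m) b : ℤ) * β b) := by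
      intro b hb
      have hb' := (Finset.mem_sdiff.mp hb).2
      rw [hout b hb']
      by_cases hm0 : edgeMult ends (vx f m) b = 0
      · simp [hm0]
      rw [if_neg (fun h' => hb' ((hcross b _ (by rwa [mult_comm]) h' (hA m hp le_rfl)).1 ▸ G.vx_mem))]
      ring
    rw [Finset.sum_congr rfl hb0, Finset.sum_congr rfl hbm, Finset.sum_add_distrib, ← Finset.mul_sum,
      G.outer_weight_last, Nat.cast_sub hp]
    push_cast; ring

theorem injective_step (x : CtrVert ends (univ.image e) → ℤ)
    (hfx : liftAt ends (univ.image e) (f 0) x ∈ LinearMap.range (Matrix.mulVecLin (mfMatrix ends β))) :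
    x ∈ LinearMap.range (Matrix.mulVecLin (mfMatrix (ctrEnds ends (univ.image e)) (ctrFn ends (univ.image e) β))) := by
  classical
  obtain ⟨y, hy⟩ := hfx
  rw [Matrix.mulVecLin_apply] at hy
  have hp := G.m_pos
  obtain ⟨A, hA0, hA, hcross⟩ := G.exists_side
  set d := y (vx f 1) - y (vx f 0) with hd
  have hlin : ∀ i, i ≤ m → y (vx f i) = y (vx f 0) + d * i := by
    intro i
    induction i using Nat.strong_induction_on with
    | _ i ih =>
      intro hi
      match i, ih, hi with
      | 0, _, _ => simp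
      | 1, _, _ => simp [hd]
      | i + 2, ih, hi =>
        have h := congrFun hy (vx f (i + 1))
        rw [G.row_interior (i := i + 1) (by omega) (by omega), G.lift_pos x (i := i + 1) (by omega) (by omega),
          Nat.add_sub_cancel, ih i (by omega) (by omega), ih (i + 1) (by omega) (by omega)] at h
        push_cast at h ⊢
        linarith
  let zV : V → ℤ := fun v => if v ∈ verts f then y (vx f 0) else y v - if A v then 0 else d * β v
  let z : CtrVert ends (univ.image e) → ℤ := fun p =>
    zV (Quotient.out (s := ctrSetoid ends (univ.image e)) p)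
  have hz : ∀ v, z (ctrMk ends (univ.image e) v) = zV v := by
    intro v
    have h : ctrMk ends (univ.image e) (Quotient.out (s := ctrSetoid ends (univ.image e)) (ctrMk ends (univ.image e) v)) =
        ctrMk ends (univ.image e) v := Quotient.out_eq _
    rcases (ctr_eq_iff G.chain _ _).mp h with h' | ⟨h1, h2⟩
    · exact congrArg zV h'
    · show zV (Quotient.out (s := ctrSetoid ends (univ.image e)) _) = zV v
      simp only [zV, if_pos h1, if_pos h2]
  have hc : z (ctrMk ends (univ.image e) (vx f 0)) = y (vx f 0) := by rw [hz]; exact if_pos G.vx_mem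
  obtain ⟨t1, -, t3⟩ := G.transfer A hA0 hA hcross z y d (fun i hi => by rw [hc]; exact hlin i hi)
    (fun w hw => by rw [hz]; simp only [zV, if_neg hw]; ring)
  refine ⟨z, funext fun p => ?_⟩
  rw [Matrix.mulVecLin_apply]
  rcases class_cases G.chain p with rfl | ⟨w, hw, rfl⟩
  · rw [← vx_zero (f := f), ← t3, hy, lift_zero, G.lift_pos x hp le_rfl, add_zero]
  · rw [← t1 w hw, hy, lift_outer G.chain x hw]

theorem exists_h (z : CtrVert ends (univ.image e) → ℤ) :
    ∃ y : V → ℤ, Matrix.mulVec (mfMatrix ends β) y = liftAt ends (univ.image e) (f 0)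
      (Matrix.mulVec (mfMatrix (ctrEnds ends (univ.image e)) (ctrFn ends (univ.image e) β)) z) := by
  classical
  have hp := G.m_pos
  obtain ⟨A, hA0, hA, hcross⟩ := G.exists_side
  set c := z (ctrMk ends (univ.image e) (vx f 0))
  set d := ∑ b ∈ univ \ verts f, (edgeMult ends (vx f m) b : ℤ) * z (ctrMk ends (univ.image e) b) - c with hd
  let y : V → ℤ := fun v => if h : v ∈ verts f then c + d * ((exists_vx h).choose : ℕ)
    else z (ctrMk ends (univ.image e) v) + if A v then 0 else d * β v
  have hlin : ∀ i, i ≤ m → y (vx f i) = c + d * i := fun i hi => by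
    simp only [y, dif_pos (G.vx_mem (i := i))]
    have h := (exists_vx (G.vx_mem (i := i))).choose_spec
    rw [G.vx_inj h.1 hi h.2]
  have hout : ∀ w ∉ verts f, y w = z (ctrMk ends (univ.image e) w) + if A w then 0 else d * β w :=
    fun w hw => dif_neg hw
  obtain ⟨t1, t2, t3⟩ := G.transfer A hA0 hA hcross z y d hlin hout
  have hlast : Matrix.mulVec (mfMatrix ends β) y (vx f m) = 0 := by
    rw [G.row_last, hlin (m - 1) (by omega), hlin m le_rfl]
    have hbm : ∀ b ∈ univ \ verts f, (edgeMult ends (vx f m) b : ℤ) * y b =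
        (edgeMult ends (vx f m) b : ℤ) * z (ctrMk ends (univ.image e) b) + d * ((edgeMult ends (vx f m) b : ℤ) * β b) := by
      intro b hb
      have hb' := (Finset.mem_sdiff.mp hb).2
      rw [hout b hb']
      by_cases hm0 : edgeMult ends (vx f m) b = 0
      · simp [hm0]
      rw [if_neg (fun h' => hb' ((hcross b _ (by rwa [mult_comm]) h' (hA m hp le_rfl)).1 ▸ G.vx_mem))]
      ring
    rw [Finset.sum_congr rfl hbm, Finset.sum_add_distrib, ← Finset.mul_sum, G.outer_weight_last, Nat.cast_sub hp, hd]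
    push_cast; ring
  refine ⟨y, funext fun v => ?_⟩
  by_cases hv : v ∈ verts f
  · obtain ⟨i, hi, rfl⟩ := exists_vx hv
    rcases Nat.eq_zero_or_pos i with rfl | h0
    · rw [lift_zero, ← t3, hlast, add_zero]
    · rw [G.lift_pos _ h0 hi]
      rcases eq_or_lt_of_le hi with rfl | hlt
      · exact hlast
      · exact t2 i h0 hlt
  · rw [lift_outer G.chain _ hv, t1 v hv]

theorem lift_betaHom (x : CtrVert ends (univ.image e) → ℤ) :
    betaHom β (liftAt ends (univ.image e) (f 0) x) = betaHom (ctrFn ends (univ.image e) β) x := by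
  rw [betaHom_eq, betaHom_eq, ← Finset.sum_fiberwise univ (ctrMk ends (univ.image e))]
  refine Finset.sum_congr rfl fun p _ => ?_
  rcases class_cases G.chain p with rfl | ⟨w, hw, rfl⟩
  · rw [fiber_chain G.chain, Finset.sum_eq_single (vx f 0), lift_zero, ctrFn_mk G.chain β G.hconst, vx_zero]
    · intro a ha hne
      obtain ⟨i, hi, rfl⟩ := exists_vx ha
      rw [G.lift_pos x (Nat.pos_of_ne_zero fun h => hne (by rw [h])) hi, zero_mul]
    · exact fun h => absurd G.vx_mem h
  · rw [fiber_other G.chain hw, Finset.sum_singleton, lift_outer G.chain x hw, ctrFn_mk G.chain β G.hconst]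

theorem clear_chain (y : V → ℤ) : ∀ n, n ≤ m → ∃ u : V → ℤ,
    ∀ i, m - n < i → i ≤ m → y (vx f i) + Matrix.mulVec (mfMatrix ends β) u (vx f i) = 0
  | 0, _ => ⟨0, fun i h1 h2 => by omega⟩
  | n + 1, hn => by
    obtain ⟨u, hu⟩ := clear_chain y n (by omega)
    set j := m - n with hj
    refine ⟨u + Pi.single (vx f (j - 1)) (-(y (vx f j) + Matrix.mulVec (mfMatrix ends β) u (vx f j))), fun i h1 h2 => ?_⟩
    rw [Matrix.mulVec_add, Pi.add_apply, Matrix.mulVec_single, Pi.smul_apply]
    have hne : vx f i ≠ vx f (j - 1) := G.ne_vx h2 (by omega) (by omega)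
    have hα : mfMatrix ends β (vx f i) (vx f (j - 1)) = if i = j then 1 else 0 := by
      rw [mfMatrix, if_neg hne, mult_comm, G.chain_mult (by omega) h2 (by omega)]
      split_ifs <;> first | rfl | omega
    simp only [Matrix.col_apply, MulOpposite.smul_eq_mul_unop, MulOpposite.unop_op, hα]
    by_cases hij : i = j
    · rw [if_pos hij, hij]; ring
    · rw [if_neg hij, zero_mul, add_zero]
      exact hu i (by omega) h2

theorem surjective_step (y : V → ℤ) (hy : betaHom β y = 0) :
    ∃ x : CtrVert ends (univ.image e) → ℤ, betaHom (ctrFn ends (univ.image e) β) x = 0 ∧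
      y - liftAt ends (univ.image e) (f 0) x ∈ LinearMap.range (Matrix.mulVecLin (mfMatrix ends β)) := by
  obtain ⟨u, hu⟩ := G.clear_chain y m le_rfl
  set y' := y + Matrix.mulVec (mfMatrix ends β) u with hy'
  classical
  let x : CtrVert ends (univ.image e) → ℤ := fun p =>
    if p = ctrMk ends (univ.image e) (vx f 0) then y' (vx f 0) else y' (Quotient.out (s := ctrSetoid ends (univ.image e)) p)
  have hlift : liftAt ends (univ.image e) (f 0) x = y' := by
    funext v
    by_cases hv : v ∈ verts f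
    · obtain ⟨i, hi, rfl⟩ := exists_vx hv
      rcases Nat.eq_zero_or_pos i with rfl | h0
      · rw [lift_zero]; exact if_pos rfl
      · rw [G.lift_pos x h0 hi]; exact (hu i (by omega) hi).symm
    · rw [lift_outer G.chain x hv]
      have hne : ctrMk ends (univ.image e) v ≠ ctrMk ends (univ.image e) (vx f 0) := fun h => by
        rcases (ctr_eq_iff G.chain _ _).mp h with e | e
        · exact hv (e ▸ G.vx_mem)
        · exact hv e.1
      simp only [x, if_neg hne]
      have h : ctrMk ends (univ.image e) (Quotient.out (s := ctrSetoid ends (univ.image e)) (ctrMk ends (univ.image e) v)) =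
          ctrMk ends (univ.image e) v := Quotient.out_eq _
      rcases (ctr_eq_iff G.chain _ _).mp h with e | e
      · exact congrArg y' e
      · exact absurd e.2 hv
  refine ⟨x, ?_, ?_⟩
  · rw [← G.lift_betaHom, hlift, hy', map_add, hy, betaHom_mulVec G.mult, add_zero]
  · rw [hlift, hy', sub_add_cancel_left]
    exact neg_mem ⟨u, rfl⟩

end Good

end Chain

end Groth.Agent.LGChain
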